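import Groth.Agent.Pic13.H496.Mum
import Groth.Agent.S2426
import Groth.Agent.S1647
import Groth.Agent.Ega3B.ProjFrame
import Groth.Agent.Ega3B.PullTensor
import Groth.Agent.Ega2.TensPow
import Groth.Agent.PerfC.PullRestrict
import Groth.Agent.CohqA.ClosedPush
import Groth.Agent.VarietyB.GGStalk
import Groth.Prelude.Def_ShStab

/-!
# Uniform bounds for coherent quotients of `O_X^N` with a given Hilbert polynomial

`X` closed in `P^n_k`, `L ≅ i^* O(1)`.  `exists_bound`: there is `l₀` such that for every coherent quotient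
`q : O_X^N ⟶ F` with Hilbert polynomial `P` and every `l ≥ l₀`, the higher cohomology of `F(l)` and of `(ker q)(l)`
vanishes and `(ker q)(l)` is globally generated.
-/

set_option autoImplicit false
universe u
open CategoryTheory CategoryTheory.Limits AlgebraicGeometry Polynomial

namespace K113.QuotBound

open Groth.Agent Groth.Agent.VarietyB Groth.Agent.VarietyB.EulerBinom Groth.Agent.Pic13.H496.Mum

variable {k : Type u} [Field k] {n : ℕ} {X : Scheme.{u}} (i : X ⟶ CohB1.ProjSpace n k) [IsClosedImmersion i]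

/-- `O_P^N ⟶ i_* O_X^N`. -/
noncomputable def unitMapN (N : ℕ) : FlatMod.freeMod (CohB1.ProjSpace n k) N ⟶
    (Scheme.Modules.pushforward i).obj (FlatMod.freeMod X N) :=
  (Scheme.Modules.pullbackPushforwardAdjunction i).unit.app (FlatMod.freeMod (CohB1.ProjSpace n k) N) ≫
    (Scheme.Modules.pushforward i).map (PerfC.PullRestrict.pullbackFreeMod i N).hom

instance epi_unitMapN (N : ℕ) : Epi (unitMapN i N) := by
  have h1 : Epi ((Scheme.Modules.pullbackPushforwardAdjunction i).unit.app
      (FlatMod.freeMod (CohB1.ProjSpace n k) N)) :=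
    CycB.ClosedDev.epi_unit i _
  exact epi_comp' h1 inferInstance

omit [IsClosedImmersion i] in
/-- `M(t) ≅ M ⊗ L^t`. -/
theorem nonempty_twist {L : X.Modules}
    (hL : Nonempty (L ≅ (Scheme.Modules.pullback i).obj (Twist.twistProjSpace n k 1))) (M : X.Modules) (t : ℕ) :
    Nonempty (Pic13.twistOn k i M t ≅ ShStab.twist X L M t) := by
  obtain ⟨eL⟩ := hL
  obtain ⟨e⟩ := Ega3B.ProjFrame.nonempty_twistProjSpace_iso (r := n) k t
  obtain ⟨e'⟩ := Ega3B.PullTensor.nonempty_pullPowIso i (Ega3B.ProjFrame.isInvertible_twistProjSpace n k 1) t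
  exact ⟨Ega2.Tens.mapTIso (Iso.refl M)
    ((Scheme.Modules.pullback i).mapIso e ≪≫ e' ≪≫ Ega2.TensPow.powIso eL.symm t)⟩

/-- A module on a closed subscheme is globally generated if its direct image is. -/
theorem isGloballyGenerated_of_push {M : X.Modules}
    (h : Curv2.IsGloballyGenerated ((Scheme.Modules.pushforward i).obj M)) : Curv2.IsGloballyGenerated M := by
  have h1 := GGStalk.isGloballyGenerated_pullback i _ h
  have := CohqA.ClosedPush.full (i := i)
  have := CohqA.ClosedPush.faithful (i := i)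
  exact Ega2.GlobGenCrit.isGloballyGenerated_of_iso
    (asIso ((Scheme.Modules.pullbackPushforwardAdjunction i).counit.app M)) h1

theorem isGloballyGenerated_of_epi {Y : Scheme.{u}} {M N : Y.Modules} (p : M ⟶ N) [Epi p]
    (h : Curv2.IsGloballyGenerated M) : Curv2.IsGloballyGenerated N := by
  obtain ⟨κ, q, hq⟩ := h
  have hp : Epi p := inferInstance
  exact ⟨κ, q ≫ p, @epi_comp _ _ _ _ _ q hq p hp⟩

section Chi

variable [X.Over (Spec (CommRingCat.of k))] (hi : i ≫ CohB1.ProjSpace.toSpec n k = X ↘ Spec (CommRingCat.of k))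

include hi

/-- Vanishing above `n`. -/
theorem vanish_big (M : X.Modules) (hM : Coh.IsCoh M) (j : ℕ) (hj : n + 1 ≤ j) :
    Subsingleton (Coh.HH X M j) := by
  obtain ⟨e⟩ := HHPush.exists_linearEquiv i k hi M hM.1 j
  have h1 : Coh.IsQCoh ((Coh.push i).obj M) := (Groth.Agent.S0019.result i M hM).1
  have h2 := Groth.Agent.S0022.result n k ((Coh.push i).obj M) j (by omega)
  exact e.toEquiv.subsingleton_congr.mp h2

theorem sum_eq_euler (M : X.Modules) (hM : Coh.IsCoh M) : ((Finset.range (n + 1)).sum fun j => (-1 : ℚ) ^ j *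
      ((Module.length k (Coh.HH X M j)).toNat : ℚ)) = (Curv2.euler k X M : ℚ) := by
  rw [VarietyA.EulerAdd.euler_eq_sum k M (n + 1) (vanish_big i hi M hM)]
  push_cast
  refine Finset.sum_congr rfl fun j _ => ?_
  congr 2
  rw [Module.length_eq_rank]
  rfl

omit hi [X.Over (Spec (CommRingCat.of k))] [IsClosedImmersion i] in
theorem isCoh_twistOn {F : X.Modules} (hF : Coh.IsCoh F) (d : ℤ) : Coh.IsCoh (Pic13.twistOn k i F d) :=
  Fga.TwistCoh.isCoh_tensor hF (Fdesc.LocGen.isInvertible_pullback i (Ega3B.ProjFrame.isInvertible_twistProjSpace n k d))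

/-- The Hilbert polynomial gives the Euler characteristics of all twists, also the negative ones. -/
theorem euler_twistOn {L : X.Modules}
    (hL : Nonempty (L ≅ (Scheme.Modules.pullback i).obj (Twist.twistProjSpace n k 1))) {F : X.Modules}
    (hF : Coh.IsCoh F) {P : ℚ[X]} (hP : ShStab.IsHilbPoly k X L F P) (d : ℤ) :
    (Curv2.euler k X (Pic13.twistOn k i F d) : ℚ) = P.eval (d : ℚ) := by
  obtain ⟨φ, hφ⟩ := Groth.Agent.S2426.result k n X i hi F hF
  have hφ' : ∀ n : ℤ, (Curv2.euler k X (Pic13.twistOn k i F n) : ℚ) = φ.eval (n : ℚ) :=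
    fun n => (sum_eq_euler i hi _ (isCoh_twistOn i hF n)).symm.trans (hφ n)
  have hφP : φ = P := by
    refine Polynomial.eq_of_infinite_eval_eq _ _ ?_
    refine Set.Infinite.mono (s := Set.range (fun t : ℕ => (t : ℚ))) ?_
      (Set.infinite_range_of_injective Nat.cast_injective)
    rintro _ ⟨t, rfl⟩
    have h1 := hφ' (t : ℤ)
    obtain ⟨e⟩ := nonempty_twist i hL F t
    have h2 : Curv2.euler k X (Pic13.twistOn k i F t) = Curv2.euler k X (ShStab.twist X L F t) :=
      VarietyA.EulerAdd.euler_congr k e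
    rw [h2, hP t] at h1
    simpa using h1.symm
  rw [hφ' d, hφP]

end Chi

section Main

variable [X.Over (Spec (CommRingCat.of k))] (hi : i ≫ CohB1.ProjSpace.toSpec n k = X ↘ Spec (CommRingCat.of k))

include hi

/-- **Uniform bounds for quotients of `O_X^N` with fixed Hilbert polynomial.** -/
theorem exists_bound {L : X.Modules}
    (hL : Nonempty (L ≅ (Scheme.Modules.pullback i).obj (Twist.twistProjSpace n k 1))) (N : ℕ) (P : ℚ[X]) :
    ∃ m : ℤ, ∀ (F : X.Modules) (q : FlatMod.freeMod X N ⟶ F), Coh.IsCoh F → Epi q → ShStab.IsHilbPoly k X L F P →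
      ∀ t : ℤ, m ≤ t →
        (∀ j : ℕ, 0 < j → Subsingleton (Coh.HH X (Pic13.twistOn k i F t) j)) ∧
        (∀ j : ℕ, 0 < j → Subsingleton (Coh.HH X (Pic13.twistOn k i (kernel q) t) j)) ∧
        Curv2.IsGloballyGenerated (Pic13.twistOn k i (kernel q) t) := by
  have hON : Coh.IsCoh (FlatMod.freeMod X N) := PerfA.CohSerre.isCoh_freeMod N
  obtain ⟨m₁, hm₁⟩ := regular_bound k n N (fun t => ⌊P.eval (t : ℚ)⌋)
  have hA : Coh.IsCoh (kernel (unitMapN i N)) :=
    Sga67.CohBasic.isCoh_kernel _ (isCoh_free k n N) (Groth.Agent.S0019.result i _ hON).1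
  obtain ⟨m₂, hm₂⟩ := Fga.MumInputs.serre k n (kernel (unitMapN i N)) hA
  refine ⟨max 0 (max m₁ m₂), fun F q hF hq hP t ht => ?_⟩
  have ht0 : 0 ≤ t := le_trans (le_max_left _ _) ht
  have ht1 : m₁ ≤ t := le_trans (le_max_left _ _) (le_trans (le_max_right _ _) ht)
  have ht2 : m₂ ≤ t := le_trans (le_max_right _ _) (le_trans (le_max_right _ _) ht)
  have hFP : Coh.IsCoh ((Scheme.Modules.pushforward i).obj F) := Groth.Agent.S0019.result i F hF
  have hq' : Epi ((Scheme.Modules.pushforward i).map q) := inferInstance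
  have hψ : Epi (unitMapN i N ≫ (Scheme.Modules.pushforward i).map q) := epi_comp _ _
  have hχ' : ∀ t : ℤ, Curv2.euler k (CohB1.ProjSpace n k)
      (CohB1.tensorMod ((Scheme.Modules.pushforward i).obj F) (Twist.twistProjSpace n k t)) =
      ⌊P.eval (t : ℚ)⌋ := by
    intro t
    rw [← euler_twistOn i hi hL hF hP t, Int.floor_intCast, euler_iso k n (pushTwist i F t)]
    exact HHPush.euler_push i k hi _ (isQCoh_twistOn i hF.1 t)
  have hreg := hm₁ _ _ hFP hψ hχ'
  have hK : Coh.IsCoh (kernel (unitMapN i N ≫ (Scheme.Modules.pushforward i).map q)) :=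
    Sga67.CohBasic.isCoh_kernel _ (isCoh_free k n N) hFP.1
  have hvK := vanish_of_regular k n hK hreg t ht1
  have hs := shortExact_twist k n (kerSeq_shortExact (unitMapN i N) ((Scheme.Modules.pushforward i).map q)) t
  let eK : CohB1.tensorMod (kernel ((Scheme.Modules.pushforward i).map q)) (Twist.twistProjSpace n k t) ≅
      (Scheme.Modules.pushforward i).obj (Pic13.twistOn k i (kernel q) t) :=
    (DCoh.tensorRightMod (Twist.twistProjSpace n k t)).mapIso
        (PreservesKernel.iso (Scheme.Modules.pushforward i) q).symm ≪≫ pushTwist i (kernel q) t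
  refine ⟨fun j hj => ?_, fun j hj => ?_, ?_⟩
  · have hSES : (ShortComplex.mk (kernel.ι (unitMapN i N ≫ (Scheme.Modules.pushforward i).map q))
        (unitMapN i N ≫ (Scheme.Modules.pushforward i).map q) (kernel.condition _)).ShortExact :=
      { exact := ShortComplex.exact_kernel _
        mono_f := inferInstance
        epi_g := hψ }
    have h3 := Fga.HShift.subsingleton₃ (shortExact_twist k n hSES t) j
      (Fga.MumInputs.free_vanish k n N j hj t (by omega)) (hvK (j + 1) (by omega))
    have h4 := Fga.HShift.subsingleton_of_iso (pushTwist i F t) j h3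
    obtain ⟨e'⟩ := HHPush.exists_linearEquiv i k hi (Pic13.twistOn k i F t) (isQCoh_twistOn i hF.1 t) j
    exact e'.toEquiv.subsingleton_congr.mp h4
  · have h1 := hvK j hj
    have h2 := hm₂ t ht2 (j + 1) (by omega)
    have h3 := Fga.HShift.subsingleton₃ hs j h1 h2
    have h4 := Fga.HShift.subsingleton_of_iso eK j h3
    obtain ⟨e'⟩ := HHPush.exists_linearEquiv i k hi (Pic13.twistOn k i (kernel q) t)
      (isQCoh_twistOn i (PerfA.QCohSerre.isQCoh_kernel q hON.1 hF.1) t) j
    exact e'.toEquiv.subsingleton_congr.mp h4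
  · have hgg := Groth.Agent.S1647.result k n _ hK t (regular_ge k n hK hreg ht1)
    have hepi := hs.epi_g
    refine isGloballyGenerated_of_push i (Ega2.GlobGenCrit.isGloballyGenerated_of_iso eK ?_)
    exact @isGloballyGenerated_of_epi _ _ _ _ hepi hgg

/-- The bound for twists by powers of `L`. -/
theorem exists_bound_pow {L : X.Modules}
    (hL : Nonempty (L ≅ (Scheme.Modules.pullback i).obj (Twist.twistProjSpace n k 1))) (N : ℕ) (P : ℚ[X]) :
    ∃ l₀ : ℕ, ∀ (F : X.Modules) (q : FlatMod.freeMod X N ⟶ F), Coh.IsCoh F → Epi q →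
      ShStab.IsHilbPoly k X L F P → ∀ l : ℕ, l₀ ≤ l →
        (∀ j : ℕ, 0 < j → Subsingleton (Coh.HH X (ShStab.twist X L F l) j)) ∧
        (∀ j : ℕ, 0 < j → Subsingleton (Coh.HH X (ShStab.twist X L (kernel q) l) j)) ∧
        Curv2.IsGloballyGenerated (ShStab.twist X L (kernel q) l) := by
  obtain ⟨m, hm⟩ := exists_bound i hi hL N P
  refine ⟨m.toNat, fun F q hF hq hP l hl => ?_⟩
  obtain ⟨h1, h2, h3⟩ := hm F q hF hq hP l (by omega)
  obtain ⟨eF⟩ := nonempty_twist i hL F l
  obtain ⟨eK⟩ := nonempty_twist i hL (kernel q) l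
  exact ⟨fun j hj => Fga.HShift.subsingleton_of_iso eF j (h1 j hj),
    fun j hj => Fga.HShift.subsingleton_of_iso eK j (h2 j hj),
    Ega2.GlobGenCrit.isGloballyGenerated_of_iso eK h3⟩

end Main

end K113.QuotBound
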